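import Mathlib
import Cfsg.Prelude.Def_Blocks
import Cfsg.Prelude.Def_BlockRank
import Cfsg.Prelude.Def_BlockLocal

/-!
# S4546: 2-blocks with defect group `C_(2^n) × C_2^3` (hub helper613): definitions

* `E8 D` : `D` is elementary abelian of order 8.
* `HZ G` : every 2-block of `G` with a defect group `E8` has only characters of height zero.
* `Cfg0 D x` : the group-theoretic traces of a 2-block with defect group `D = 2^3` and inertial quotient
  divisible by 7, `x` in a defect class.
* `CfgB D x θ` : the same with the canonical character `θ` of `C_G(D)`.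
* `NoCfg S` : there are no such `D`, `x` in `S`.
-/

set_option autoImplicit false

open Cfsg

namespace Cfsg.Agent.H613.KKL

/-- elementary abelian of order 8 -/
structure E8 {G : Type*} [Group G] (D : Subgroup G) : Prop where
  card : Nat.card D = 8
  inv : ∀ d ∈ D, d * d = 1

/-- every 2-block of `G` with an elementary abelian defect group of order 8 has only characters of height zero -/
def HZ (G : Type*) [Group G] [Finite G] : Prop :=
  ∀ M : Ideal AlgInt, IsPModular 2 M → ∀ B : Set (IrrCharacter G), IsPBlock M B →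
    ∀ D : Subgroup G, IsDefectGroup 2 M B D → E8 D → ∀ χ ∈ B, blockHeight 2 B (χ : G → ℂ) = 0

/-- `y` is a 7-element normalising `D` and permuting the involutions of `D` transitively -/
structure Seven {G : Type*} [Group G] (D : Subgroup G) (y : G) : Prop where
  norm : ∀ d : G, y * d * y⁻¹ ∈ D ↔ d ∈ D
  seven : ∃ m : ℕ, orderOf y = 7 ^ m
  trans : ∀ a ∈ D, a ≠ 1 → ∀ b ∈ D, b ≠ 1 → ∃ k : ℕ, y ^ k * a * (y ^ k)⁻¹ = b

/-- The group-theoretic configuration: `D ≅ 2^3` is a Sylow 2-subgroup of `C(x)`, `x` of odd order, a 7-element is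
transitive on the involutions of `D`, and every normal 2-subgroup of the centralizer of a subgroup `R` of `D` is
contained in `D`. -/
structure Cfg0 {S : Type*} [Group S] (D : Subgroup S) (x : S) : Prop where
  e8 : E8 D
  odd : Odd (orderOf x)
  comm : ∀ d ∈ D, d * x = x * d
  syl : ∀ Q : Subgroup S, IsPGroup 2 Q → (∀ q ∈ Q, q * x = x * q) →
    ∃ c : S, c * x = x * c ∧ ∀ q ∈ Q, c * q * c⁻¹ ∈ D
  seven : ∃ y : S, Seven D y
  rad : ∀ R : Subgroup S, R ≤ D → ∀ N : Subgroup S, IsPGroup 2 N → N ≤ Subgroup.centralizer (R : Set S) →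
    (∀ c ∈ Subgroup.centralizer (R : Set S), ∀ n ∈ N, c * n * c⁻¹ ∈ N) → N ≤ D

/-- no configuration in `S` -/
def NoCfg (S : Type*) [Group S] : Prop := ∀ (D : Subgroup S) (x : S), ¬ Cfg0 D x

/-- The configuration of a 2-block: `θ` is the canonical character of `C_G(D)`: trivial on `D`, of defect zero
for `C_G(D)/D`, and fixed by the element `y`. -/
structure CfgB {G : Type*} [Group G] (D : Subgroup G) (x : G)
    (θ : IrrCharacter ↥(Subgroup.centralizer (D : Set G))) : Prop extends Cfg0 D x where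
  ker : ∀ d c : ↥(Subgroup.centralizer (D : Set G)), (d : G) ∈ D →
    (θ : ↥(Subgroup.centralizer (D : Set G)) → ℂ) (d * c) = (θ : ↥(Subgroup.centralizer (D : Set G)) → ℂ) c
  zero : (charDegree (θ : ↥(Subgroup.centralizer (D : Set G)) → ℂ)).factorization 2 + 3 =
    (Nat.card ↥(Subgroup.centralizer (D : Set G))).factorization 2
  inv : ∃ y : G, Seven D y ∧ ∀ c c' : ↥(Subgroup.centralizer (D : Set G)), (c' : G) = y * c * y⁻¹ →
    (θ : ↥(Subgroup.centralizer (D : Set G)) → ℂ) c' = (θ : ↥(Subgroup.centralizer (D : Set G)) → ℂ) c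

/-- the block `B` of `G` covers the block `b` of the subgroup `N` -/
def Cov {G : Type*} [Group G] [Finite G] (N : Subgroup G) (b : Set (IrrCharacter ↥N)) (B : Set (IrrCharacter G)) :
    Prop :=
  ∃ χ ∈ B, ∃ θ ∈ b,
    (haveI := Fintype.ofFinite ↥N; classInner (fun n : ↥N => (χ : G → ℂ) n) (θ : ↥N → ℂ)) ≠ 0

/-- the character `θ` of `N` is fixed by all conjugations of `G` -/
def Inv {G : Type*} [Group G] (N : Subgroup G) (θ : IrrCharacter ↥N) : Prop :=
  ∀ (g : G) (n n' : ↥N), (n' : G) = g * n * g⁻¹ → (θ : ↥N → ℂ) n' = (θ : ↥N → ℂ) n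

end Cfsg.Agent.H613.KKL
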