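import Mathlib
import Cfsg.Agent.H613.KKL.Defs

/-!
# S4546: classical involutions (shared definition for X1, X2a, X2b, X2c and the rows)
-/

set_option autoImplicit false

open Cfsg

namespace Cfsg.Agent.H613.KKL

/-- `t` is a classical involution with the fundamental subgroup `J` (`= SL₂(q)`), `C_K(t)` acts on `J` through `PGL₂(q)`. -/
structure CI {K : Type*} [Group K] (t : K) (J : Subgroup K) : Prop where
  mem : t ∈ J
  q8 : ∃ i ∈ J, ∃ j ∈ J, i * i = t ∧ j * j = t ∧ i * j = t * (j * i)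
  norm : ∀ c : K, c * t = t * c → ∀ g ∈ J, c * g * c⁻¹ ∈ J
  act : ∃ (F : Type) (_ : Field F) (_ : Fintype F)
    (f : ↥(Subgroup.centralizer ({t} : Set K)) →* (Matrix.GeneralLinearGroup (Fin 2) F ⧸ Subgroup.center (Matrix.GeneralLinearGroup (Fin 2) F))),
    (2 : F) ≠ 0 ∧ ∀ c : ↥(Subgroup.centralizer ({t} : Set K)), f c = 1 ↔ ∀ g ∈ J, (c : K) * g = g * c
  cap : ∀ A : Subgroup K, A ≤ J → (∀ g ∈ J, ∀ a ∈ A, g * a * g⁻¹ ∈ A) → A ≠ ⊥ → t ∈ A

end Cfsg.Agent.H613.KKL
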