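import Cfsg.Agent.SporRec.Co3.Fusion
import Cfsg.Agent.H825.KKL.Tools

/-!
# S4546, row `Co₃`, the involutions of type 2A are not in `D` (helper613)

`C(t)` is the non-split double cover of `Sp₆(2)`: if `t ∈ D`, a further involution `a ∈ D` is of type A, and the
centralizer of `⟨t, a⟩` has the normal 2-subgroup of the elements over `⟨tr u, tr w, tr (u+w)⟩`, which contains
elements of order 4.
-/

set_option autoImplicit false

open Subgroup Cfsg Cfsg.Agent.H613.KKL

namespace Cfsg.Agent.H613.KKL.CoThreeAbs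

open Cfsg.Agent.SporRec.TwoSp6.Cox Cfsg.Agent.SporRec.TwoSp6.Sp Cfsg.Agent.SporRec.TwoSp6.Lift
  Cfsg.Agent.SporRec.TwoSp6.Main Cfsg.Agent.SporRec.TwoSp6.Invol Cfsg.Agent.SporRec.TwoSp6.CInvol
open Cfsg.Agent.SporRec.Co3.Fusion

/-- the group generated by three transvections of a line -/
def T3 (u w : V) : Subgroup S := closure {tr u, tr w, tr (u + w)}

theorem gens_comm {u w : V} (h : om u w = 0) : ∀ a ∈ ({tr u, tr w, tr (u + w)} : Set S),
    ∀ b ∈ ({tr u, tr w, tr (u + w)} : Set S), a * b = b * a := by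
  have h1 : om u (u + w) = 0 := by rw [om_add, om_self, h, add_zero]
  have h2 : om w (u + w) = 0 := by rw [om_add, om_self, om_symm, h, add_zero]
  have c1 := tr_comm h
  have c2 := tr_comm h1
  have c3 := tr_comm h2
  rintro a (rfl | rfl | rfl) b (rfl | rfl | rfl)
  · rfl
  · exact c1
  · exact c2
  · exact c1.symm
  · rfl
  · exact c3
  · exact c2.symm
  · exact c3.symm
  · rfl

theorem T3_comm {u w : V} (h : om u w = 0) : ∀ a ∈ T3 u w, ∀ b ∈ T3 u w, a * b = b * a := by
  have h1 : T3 u w ≤ centralizer ({tr u, tr w, tr (u + w)} : Set S) := by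
    unfold T3
    rw [closure_le]
    intro a ha
    rw [SetLike.mem_coe, mem_centralizer_iff]
    intro b hb
    exact gens_comm h b hb a ha
  have h2 : T3 u w ≤ centralizer (T3 u w : Set S) := by
    conv_lhs => unfold T3
    rw [closure_le]
    intro a ha
    rw [SetLike.mem_coe, mem_centralizer_iff]
    intro b hb
    exact (mem_centralizer_iff.1 (h1 hb) a ha).symm
  intro a ha b hb
  exact (mem_centralizer_iff.1 (h2 ha) b hb).symm

theorem T3_sq {u w : V} (h : om u w = 0) {s : S} (hs : s ∈ T3 u w) : s * s = 1 := by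
  have hc := T3_comm h
  unfold T3 at hs
  induction hs using closure_induction with
  | mem x hx =>
    rcases hx with rfl | rfl | rfl
    · exact tr_sq u
    · exact tr_sq w
    · exact tr_sq (u + w)
  | one => rw [one_mul]
  | mul x y hx hy ihx ihy =>
    have h1 := hc x hx y hy
    calc x * y * (x * y) = x * (y * x) * y := by group
      _ = x * (x * y) * y := by rw [h1]
      _ = (x * x) * (y * y) := by group
      _ = 1 := by rw [ihx, ihy, one_mul]
  | inv x hx ih =>
    rw [← mul_inv_rev, ih, inv_one]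

/-- the action of `tr u * tr w * tr (u + w)` -/
theorem act_three {u w : V} (h : om u w = 0) (x : V) :
    act (tr u * tr w * tr (u + w)) x = x + om x w • u + om x u • w := by
  have h' : om w u = 0 := by rw [om_symm]; exact h
  rw [act_mul, act_mul, act_tr (u + w), act_tr w, act_tr u]
  rcases om_cases x u with h1 | h1 <;> rcases om_cases x w with h2 | h2
  · simp only [om_add, om_add', om_self, h, h', h1, h2, zero_add, add_zero, zero_smul]
  · simp only [om_add, om_add', om_self, h, h', h1, h2, zero_add, add_zero, zero_smul, one_smul]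
    rw [add_assoc, add_assoc, add_self, add_zero]
  · simp only [om_add, om_add', om_self, h, h', h1, h2, zero_add, add_zero, zero_smul, one_smul]
    rw [add_assoc, add_comm (u + w) u, ← add_assoc u u w, add_self, zero_add]
  · have h3 : (1 : ZMod 2) + 1 = 0 := by decide
    simp only [om_add, om_add', om_self, h, h', h1, h2, zero_add, add_zero, zero_smul, one_smul, h3]
    rw [add_assoc, add_assoc, add_comm w u]

/-- an element commuting with `tr u * tr w * tr (u + w)` permutes `u`, `w`, `u + w` -/
theorem perm_left {u w : V} (hu : u ≠ 0) (hw : w ≠ 0) (hne : w ≠ u) (h : om u w = 0) {g : S}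
    (hg : g * (tr u * tr w * tr (u + w)) = tr u * tr w * tr (u + w) * g) (a : V)
    (ha : a = u ∨ a = w) : act g a = u ∨ act g a = w ∨ act g a = u + w := by
  have key : ∀ x : V, om x w • act g u + om x u • act g w = om (act g x) w • u + om (act g x) u • w := by
    intro x
    have h1 : act g (act (tr u * tr w * tr (u + w)) x) = act (tr u * tr w * tr (u + w)) (act g x) := by
      rw [← act_mul, ← act_mul, hg]
    rw [act_three h, act_three h, act_add, act_add, act_smul, act_smul] at h1
    rw [add_assoc, add_assoc] at h1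
    exact add_left_cancel h1
  have fin : ∀ y b : V, y ≠ 0 → y = om b w • u + om b u • w → y = u ∨ y = w ∨ y = u + w := by
    intro y b hy hb
    rcases om_cases b w with h1 | h1 <;> rcases om_cases b u with h2 | h2 <;>
      rw [h1, h2] at hb <;> simp only [zero_smul, one_smul, zero_add, add_zero] at hb
    · exact absurd hb hy
    · exact Or.inr (Or.inl hb)
    · exact Or.inl hb
    · exact Or.inr (Or.inr hb)
  rcases ha with rfl | rfl
  · obtain ⟨x, hx1, hx2⟩ := exists_om_one_zero hw hne
    have h1 := key x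
    rw [om_symm x w, hx1, om_symm x a, hx2, one_smul, zero_smul, add_zero] at h1
    exact fin _ _ (act_ne hu) h1
  · obtain ⟨x, hx1, hx2⟩ := exists_om_one_zero hu (Ne.symm hne)
    have h1 := key x
    rw [om_symm x a, hx2, om_symm x u, hx1, one_smul, zero_smul, zero_add] at h1
    exact fin _ _ (act_ne hw) h1

theorem tr_mem {u w a : V} (h : a = u ∨ a = w ∨ a = u + w) : tr a ∈ T3 u w := by
  apply Subgroup.subset_closure
  rcases h with rfl | rfl | rfl
  · exact Or.inl rfl
  · exact Or.inr (Or.inl rfl)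
  · exact Or.inr (Or.inr rfl)

theorem T3_conj {u w : V} (hu : u ≠ 0) (hw : w ≠ 0) (hne : w ≠ u) (h : om u w = 0) {g : S}
    (hg : g * (tr u * tr w * tr (u + w)) = tr u * tr w * tr (u + w) * g) {s : S} (hs : s ∈ T3 u w) :
    g * s * g⁻¹ ∈ T3 u w := by
  have p1 := perm_left hu hw hne h hg u (Or.inl rfl)
  have p2 := perm_left hu hw hne h hg w (Or.inr rfl)
  have hd : act g u ≠ act g w := fun e => hne (act_inj e).symm
  have p3 : act g (u + w) = u ∨ act g (u + w) = w ∨ act g (u + w) = u + w := by
    rw [act_add]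
    rcases p1 with e1 | e1 | e1 <;> rcases p2 with e2 | e2 | e2 <;> rw [e1, e2] at hd <;>
      first
        | exact absurd rfl hd
        | (rw [e1, e2]
           first
             | exact Or.inr (Or.inr rfl)
             | exact Or.inr (Or.inr (add_comm _ _))
             | (left; rw [add_comm u w, ← add_assoc, add_self, zero_add])
             | (right; left; rw [← add_assoc, add_self, zero_add])
             | (right; left; rw [add_comm, ← add_assoc, add_self, zero_add])
             | (left; rw [add_assoc, add_self, add_zero]))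
  have h1 : (T3 u w).map (MulAut.conj g).toMonoidHom ≤ T3 u w := by
    conv_lhs => unfold T3
    rw [MonoidHom.map_closure, closure_le]
    rintro _ ⟨x, hx, rfl⟩
    show g * x * g⁻¹ ∈ T3 u w
    rcases hx with rfl | rfl | rfl
    · rw [conj_tr]; exact tr_mem p1
    · rw [conj_tr]; exact tr_mem p2
    · rw [conj_tr]; exact tr_mem p3
  exact h1 ⟨s, hs, rfl⟩

section
variable {G : Type*} [Group G] {t : G} {π : centralizer ({t} : Set G) →* S}

/-- **no involution with centralizer `2·Sp₆(2)` in `D`** -/
theorem not_mem_A (N : NS (tC t) π) {D : Subgroup G} {x : G} (h : Cfg0 D x) : t ∉ D := by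
  intro ht
  have ht1 : t ≠ 1 := t_ne N
  -- a further involution
  have hex : ∃ a ∈ D, a ≠ 1 ∧ a ≠ t := by
    by_contra hcon
    push Not at hcon
    have hsub : (D : Set G) ⊆ {1, t} := by
      intro a ha
      by_cases h1 : a = 1
      · exact Or.inl h1
      · exact Or.inr (hcon a ha h1)
    have h2 := Set.ncard_le_ncard hsub (Set.toFinite _)
    have h3 : ({1, t} : Set G).ncard = 2 := Set.ncard_pair (Ne.symm ht1)
    have h4 : (D : Set G).ncard = 8 := h.e8.card
    omega
  obtain ⟨a, haD, ha1, hat⟩ := hex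
  have hcomm := H825.KKL.cfg0_comm h a haD t ht
  obtain ⟨g, hg⟩ := isConj_iff.1 (H825.KKL.cfg0_pure h ht ht1 haD ha1)
  have hA : InA π a := by
    rcases fused_cases N (g := g) (by rw [hg]; exact hcomm) with h1 | h1
    · rw [hg] at h1
      exact absurd h1 hat
    · rwa [hg] at h1
  obtain ⟨ha, u, w, hu, hw, hne, ho, e⟩ := hA
  have huw : u + w ≠ 0 := add_ne_zero' hne
  -- the normal 2-subgroup
  have hR : closure ({t, a} : Set G) ≤ D := by
    rw [closure_le]
    rintro y (rfl | rfl)
    · exact ht
    · exact haD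
  have hcen : ∀ c : G, c ∈ centralizer ((closure ({t, a} : Set G) : Subgroup G) : Set G) ↔
      c * t = t * c ∧ c * a = a * c := by
    intro c
    rw [centralizer_closure, mem_centralizer_iff]
    constructor
    · intro hc
      exact ⟨(hc t (Or.inl rfl)).symm, (hc a (Or.inr rfl)).symm⟩
    · rintro ⟨h1, h2⟩ y (rfl | rfl)
      · exact h1.symm
      · exact h2.symm
  let M : Subgroup G := ((T3 u w).comap π).map (centralizer ({t} : Set G)).subtype ⊓ centralizer ({a} : Set G)
  have hM2 : IsPGroup 2 M := by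
    rintro ⟨n, ⟨⟨c, hc, rfl⟩, -⟩⟩
    refine ⟨2, Subtype.ext ?_⟩
    have h1 : π (c * c) = 1 := by
      rw [map_mul]
      exact T3_sq ho hc
    have h2 : (c * c) * (c * c) = 1 := by
      rcases N.ker _ h1 with h3 | h3
      · rw [h3, one_mul]
      · rw [h3]; exact N.z_sq
    show (c : G) ^ 2 ^ 2 = 1
    have h3 : ((c : G) * c) * (c * c) = 1 := congrArg Subtype.val h2
    have h5 : ∀ y : G, (y * y) * (y * y) = 1 → y ^ 2 ^ 2 = 1 := by
      intro y hy
      rw [← hy, show (2 : ℕ) ^ 2 = 4 from rfl, pow_succ, pow_succ, pow_succ, pow_one]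
      group
    exact h5 _ h3
  have hMle : M ≤ centralizer ((closure ({t, a} : Set G) : Subgroup G) : Set G) := by
    rintro n ⟨⟨c, hc, rfl⟩, hn2⟩
    rw [hcen]
    exact ⟨mem_cent.1 c.2, mem_centralizer_singleton_iff.1 hn2⟩
  have hMn : ∀ c ∈ centralizer ((closure ({t, a} : Set G) : Subgroup G) : Set G), ∀ n ∈ M, c * n * c⁻¹ ∈ M := by
    rintro c hc n ⟨⟨m, hm, rfl⟩, hn2⟩
    obtain ⟨hc1, hc2⟩ := (hcen c).1 hc
    refine ⟨⟨⟨c, mem_cent.2 hc1⟩ * m * ⟨c, mem_cent.2 hc1⟩⁻¹, ?_, rfl⟩, ?_⟩
    · show π _ ∈ T3 u w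
      rw [map_mul, map_mul, map_inv]
      refine T3_conj hu hw hne ho ?_ hm
      rw [← e, ← map_mul, ← map_mul]
      congr 1
      exact Subtype.ext hc2
    · have hn3 := mem_centralizer_singleton_iff.1 hn2
      have hcm : c ∈ centralizer ({a} : Set G) := mem_centralizer_singleton_iff.2 hc2
      exact Subgroup.mul_mem _ (Subgroup.mul_mem _ hcm hn2) (Subgroup.inv_mem _ hcm)
  have hMD := h.rad _ hR M hM2 hMle hMn
  -- an element of order 4
  obtain ⟨p, hp⟩ := N.surj (tr u)
  have hpa : p * ⟨a, ha⟩ = ⟨a, ha⟩ * p :=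
    comm_three N hu hw hne huw (add_ne_left hw) ho (by rw [om_add, om_self, ho, add_zero]) e hp
  have hpM : (p : G) ∈ M := by
    refine ⟨⟨p, ?_, rfl⟩, mem_centralizer_singleton_iff.2 (congrArg Subtype.val hpa)⟩
    show π p ∈ T3 u w
    rw [hp]
    exact tr_mem (Or.inl rfl)
  have h1 := h.e8.inv _ (hMD hpM)
  have h2 : (p : G) * p = t := congrArg Subtype.val (N.sq u hu p hp)
  exact ht1 (h2.symm.trans h1)

end

end Cfsg.Agent.H613.KKL.CoThreeAbs
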