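import Cfsg.Agent.H466.KKL.A12
import Cfsg.Agent.H640.KKL.Canon
import Cfsg.Agent.H990.KKL.A4
import Cfsg.Agent.H610.KKL.Asm5
import Cfsg.Agent.H142.KKL.B2
import Cfsg.Agent.H242.KKL.BFive
import Cfsg.Agent.H245.KKL.Reyn
import Cfsg.Agent.H581.KKL.BOne
import Cfsg.Agent.H658.KKL.FongTwo
import Cfsg.Agent.H388.KKL.BEight
import Cfsg.Agent.H527.KKL.B7
import Cfsg.Agent.H38.KKL.Red
import Cfsg.Agent.H608.KKL.C2

/-!
# S4546: the block side, assembled (hub helper613)

`A5` without hypotheses, the reduction to quasisimple groups `red_of` (only the Schreier input `PB8` left), and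
S4546 from `HZ K` for quasisimple `K` with odd centre.
-/

set_option autoImplicit false

open Cfsg Cfsg.Agent.H613.KKL

namespace Cfsg.Agent.H613.KKL.Block

universe u

/-- A5: a block with a character of positive height gives the configuration `CfgB`. -/
theorem A5 {G : Type u} [Group G] [Finite G] {M : Ideal AlgInt} (hM : IsPModular 2 M) {B : Set (IrrCharacter G)}
    (hB : IsPBlock M B) {D : Subgroup G} (hD : IsDefectGroup 2 M B D) (h8 : E8 D)
    {χ : IrrCharacter G} (hχ : χ ∈ B) (hh : blockHeight 2 B (χ : G → ℂ) ≠ 0) :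
    ∃ (x : G) (θ : IrrCharacter ↥(Subgroup.centralizer (D : Set G))), CfgB D x θ :=
  H610.KKL.A5 hM hB hD h8 (H466.KKL.A1 hM hB hD h8) (H466.KKL.A2 hM hB hD h8)
    (fun c hc T hT h7 => H640.KKL.A3 hM hB hD h8 c hc T hT h7)
    (fun c hc T hT h7 => H990.KKL.A4 hM hB hD h8 c hc T hT h7) hχ hh

/-- no configuration: heights zero -/
theorem hz_of_noCfg {G : Type u} [Group G] [Finite G] (h : NoCfg G) : HZ G := by
  intro M hM B hB D hD h8 χ hχ
  by_contra hne
  obtain ⟨x, θ, hc⟩ := A5 hM hB hD h8 hχ hne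
  exact h D x hc.toCfg0

/-- quasisimple groups with odd centre: no configuration in the simple quotient -/
theorem hz_of_noCfg_quot {K : Type u} [Group K] [Finite K] (hZ : Odd (Nat.card ↥(Subgroup.center K)))
    (h : NoCfg (K ⧸ Subgroup.center K)) : HZ K :=
  hz_of_noCfg fun _ _ hc => h _ _ (H610.KKL.A6 hZ hc)

theorem inputs (h8 : H38.KKL.PB8.{u}) : H38.KKL.Inputs.{u} where
  a1 := @H466.KKL.A1
  a5 := @A5
  b1 := @H581.KKL.B1
  b2 := @H142.KKL.B2
  b3 := @H245.KKL.B3
  b4 := @H658.KKL.B4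
  b5 := @H242.KKL.B5
  b6 := @H242.KKL.B6
  b7 := @H527.KKL.B7
  b8 := h8
  b10 := @H245.KKL.B10

/-- the reduction to quasisimple groups -/
theorem red_of (h8 : H38.KKL.PB8.{u})
    (h : ∀ (K : Type u) [Group K] [Finite K], IsQuasisimple K → Odd (Nat.card ↥(Subgroup.center K)) → HZ K) :
    ∀ (G : Type u) [Group G] [Finite G], HZ G :=
  H38.KKL.B9_of (inputs h8) h

/-- the simple quotient of a quasisimple group is not commutative -/
theorem not_comm {K : Type*} [Group K] (hK : IsQuasisimple K) : ¬ IsMulCommutative (K ⧸ Subgroup.center K) := by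
  intro hc
  have hs := hK.2
  have hp : Group.IsPerfect K := hK.1
  have h1 : commutator (K ⧸ Subgroup.center K) = ⊤ := by
    have h2 := hp.commutator_eq_top
    rw [← Subgroup.map_top_of_surjective (QuotientGroup.mk' (Subgroup.center K)) (QuotientGroup.mk'_surjective _),
      ← h2, commutator_def K, Subgroup.map_commutator, Subgroup.map_top_of_surjective _
      (QuotientGroup.mk'_surjective _), ← commutator_def]
  have h3 : commutator (K ⧸ Subgroup.center K) = ⊥ := by
    rw [commutator_def, Subgroup.commutator_eq_bot_iff_le_centralizer]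
    intro x _
    rw [Subgroup.mem_centralizer_iff]
    intro y _
    exact hc.is_comm.comm y x
  exact bot_ne_top (h3.symm.trans h1)

/-- B8 from the Schreier property of all simple groups -/
theorem pb8_of (hS : ∀ (S : Type u) [Group S] [Finite S] [IsSimpleGroup S], ¬ IsMulCommutative S →
    Schreier.Basic.Sch S) : H38.KKL.PB8.{u} := by
  intro G _ _ K _ hK hC _ h2
  have hs := hK.2
  exact H388.KKL.B8_of_sch K hK hC (hS _ (not_comm hK)) h2

/-- **S4546 from the rows** -/
theorem main_of (hS : ∀ (S : Type u) [Group S] [Finite S] [IsSimpleGroup S], ¬ IsMulCommutative S →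
      Schreier.Basic.Sch S)
    (h : ∀ (K : Type u) [Group K] [Finite K], IsQuasisimple K → Odd (Nat.card ↥(Subgroup.center K)) → HZ K)
    {G : Type u} [Group G] [Finite G] (M : Ideal AlgInt)
    (hM : IsPModular 2 M) (B : Set (IrrCharacter G)) (hB : IsPBlock M B) (D : Subgroup G)
    (hD : IsDefectGroup 2 M B D) (n : ℕ) (hn : 2 ≤ n)
    (hiso : Nonempty (D ≃* Multiplicative (ZMod (2 ^ n) × ZMod 2 × ZMod 2 × ZMod 2))) :
    Nat.card B = 2 ^ (n + 3) ∧ (∀ χ ∈ B, blockHeight 2 B (χ : G → ℂ) = 0) ∧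
      (blockRank 2 B = 1 ∨ blockRank 2 B = 3 ∨ blockRank 2 B = 5 ∨ blockRank 2 B = 7) :=
  H608.KKL.C2 (red_of (pb8_of hS) h) M hM B hB D hD n hn hiso

end Cfsg.Agent.H613.KKL.Block
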