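import Cfsg.Agent.H613.KKL.CoThreeAbs
import Cfsg.Agent.KFacts.Co3D4.Model

/-!
# S4546, row `Co₃`, piece Q1 (helper613): `D` contains no involution of type 2A
-/

set_option autoImplicit false

open Cfsg Subgroup
open Cfsg.Agent.H613.KKL
open Cfsg.Agent.SporRec.Co3.Chain Cfsg.Agent.SporRec.Co3.Ident

namespace Cfsg.Agent.H613.KKL.CoThreeA

/-- **Q1** -/
theorem Q1 {D : Subgroup G3} {x : G3} (h : Cfg0 D x) {d : G3} (hd : d ∈ D) : ¬ IsConj Z d := by
  intro hc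
  obtain ⟨D', x', h', hZ⟩ := H825.KKL.exists_conj h hd hc.symm
  obtain ⟨π, N⟩ := KFacts.Co3D4.exists_NS_G3
  exact CoThreeAbs.not_mem_A N h' hZ

end Cfsg.Agent.H613.KKL.CoThreeA
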