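import Cfsg.Agent.H613.KKL.Block
import Cfsg.Agent.H613.KKL.CoThreeA
import Cfsg.Agent.H850.KKL.Twenty
import Cfsg.Agent.H425.KKL.MTwelve
import Cfsg.Agent.H417.KKL.FE7
import Cfsg.Agent.H581.KKL.AFour
import Cfsg.Agent.CTwoTab.Co3
import Cfsg.Agent.S2045

/-!
# S4546, row `Co₃`

A 2-block of `Co₃` with an elementary abelian defect group `D` of order 8 and a character of positive height has
inertial index 7 (the index is odd and divides 168, and heights are zero if 3 divides it). So the block of `C(z)`,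
`z` in `D`, is nilpotent, of rank one. By `Q1` the involutions `z` of `D` are of type 2B, `C(z) = 2 × M₁₂`, and the
block of `M₁₂` with a Klein four defect group has rank three.
-/

set_option autoImplicit false

open Cfsg Subgroup
open Cfsg.Agent.H613.KKL
open Cfsg.Agent.SporRec.Co3.Chain Cfsg.Agent.SporRec.Co3.Ident

namespace Cfsg.Agent.H613.KKL.CoThree

universe u

open Cfsg.Agent.Blocks.Local Cfsg.Agent.Characters
open Cfsg.Agent.H649 Cfsg.Agent.H651 Cfsg.Agent.H652.DoubleCount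
open Cfsg.Agent.H645.FusCount (stab mem_stab ctrl_of_abelian)
open Cfsg.Agent.H644.CentralQuot (defl blockRank_defl isPBlock_defl)

/-- an automorphism of `2^3` of order prime to 2 and 3, with a fixed point, is trivial -/
theorem eq_one_of_fix {D : Type u} [Group D] [Finite D] (h8 : Nat.card D = 8) {φ : MulAut D}
    (h2 : ¬ 2 ∣ orderOf φ) (h3 : ¬ 3 ∣ orderOf φ) {z : D} (hz : z ≠ 1) (hφ : φ z = z) : φ = 1 := by
  by_contra hne
  have h1 : orderOf φ ≠ 1 := fun h => hne (orderOf_eq_one_iff.1 h)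
  obtain ⟨p, hp, hd⟩ := Nat.exists_prime_and_dvd h1
  have : Fact p.Prime := ⟨hp⟩
  set ψ : MulAut D := φ ^ (orderOf φ / p) with hψ
  have hψo : orderOf ψ = p := by
    rw [hψ, orderOf_pow_of_dvd (Nat.div_pos (Nat.le_of_dvd (orderOf_pos φ) hd) hp.pos).ne' (Nat.div_dvd_of_dvd hd),
      Nat.div_div_self hd (orderOf_pos φ).ne']
  have hZ : IsPGroup p (Subgroup.zpowers ψ) := IsPGroup.of_card (n := 1) (by rw [Nat.card_zpowers, hψo, pow_one])
  have hm := H581.KKL.modEq hZ
  have hψz : ψ z = z := by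
    have h4 : φ ∈ MulAction.stabilizer (MulAut D) z := hφ
    exact Subgroup.pow_mem _ h4 _
  have hzf : z ∈ H581.KKL.fixSub (Subgroup.zpowers ψ) := by
    intro χ hχ
    have h1 : Subgroup.zpowers ψ ≤ MulAction.stabilizer (MulAut D) z := (Subgroup.zpowers_le).2 hψz
    exact h1 hχ
  have hne1 : Nat.card (H581.KKL.fixSub (Subgroup.zpowers ψ)) ≠ 1 := by
    intro h
    have h4 : H581.KKL.fixSub (Subgroup.zpowers ψ) = ⊥ := Subgroup.card_eq_one.1 h
    rw [h4] at hzf
    exact hz (Subgroup.mem_bot.1 hzf)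
  have hne8 : Nat.card (H581.KKL.fixSub (Subgroup.zpowers ψ)) ≠ 8 := by
    intro h
    have h4 := H581.KKL.eq_bot_of_fix h8 h
    rw [Subgroup.zpowers_eq_bot] at h4
    rw [h4, orderOf_one] at hψo
    exact hp.one_lt.ne hψo
  have hp2 : p ≠ 2 := by rintro rfl; exact h2 hd
  have hp3 : p ≠ 3 := by rintro rfl; exact h3 hd
  rw [h8] at hm
  rcases H581.KKL.card_fix_cases h8 (Subgroup.zpowers ψ) with h4 | h4 | h4 | h4
  · exact hne1 h4
  · rw [h4] at hm
    have h5 : p ∣ 2 * 3 := (Nat.modEq_iff_dvd' (by norm_num)).1 hm.symm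
    rcases (Nat.Prime.dvd_mul hp).1 h5 with h6 | h6
    · exact hp2 ((Nat.prime_dvd_prime_iff_eq hp Nat.prime_two).1 h6)
    · exact hp3 ((Nat.prime_dvd_prime_iff_eq hp Nat.prime_three).1 h6)
  · rw [h4] at hm
    have h5 : p ∣ 2 ^ 2 := (Nat.modEq_iff_dvd' (by norm_num)).1 hm.symm
    exact hp2 ((Nat.prime_dvd_prime_iff_eq hp Nat.prime_two).1 (hp.dvd_of_dvd_pow h5))
  · exact hne8 h4

/-- **The abstract step**: a 2-block with defect group `2^3` and a positive height, no 3 in the inertial index: for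
every involution `z` of `D` the local block at `z` has rank one; its domination modulo `⟨z⟩` has rank one and the
defect group `D/⟨z⟩`. -/
theorem local_one {G : Type u} [Group G] [Finite G] {M : Ideal AlgInt} (hM : IsPModular 2 M) {B : Set (IrrCharacter G)}
    (hB : IsPBlock M B) {D : Subgroup G} (hD : IsDefectGroup 2 M B D) (h8 : E8 D) {χ : IrrCharacter G} (hχ : χ ∈ B)
    (hh : blockHeight 2 B (χ : G → ℂ) ≠ 0) {z : G} (hz : z ∈ D) (hz1 : z ≠ 1) :
    ∃ f : Set (IrrCharacter (centralizer ({z} : Set G))), IsPBlock M f ∧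
      IsDefectGroup 2 M f (D.subgroupOf (centralizer ({z} : Set G))) ∧ blockRank 2 f = 1 := by
  classical
  have : Fact (Nat.Prime 2) := ⟨Nat.prime_two⟩
  have hMp := isPrime_of_isPModular hM
  have := Fintype.ofFinite G
  obtain ⟨c, T, hc, hcD, hT⟩ := H610.KKL.exists_pair hM hB hD h8
  have h3 : ¬ 3 ∣ (Subgroup.centralizer (D : Set G)).relIndex T := fun h =>
    hh (H850.KKL.three hM hB hD h8 c hc T hT h χ hχ)
  have hmax := Cfsg.Agent.H641.isMaximal_of_induced hM hD hc
  have hab : ∀ x ∈ D, ∀ y ∈ D, x * y = y * x := H608.KKL.comm_of_inv h8.inv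
  have hTs : stab (⟨D, c⟩ : BrauerPairIdx G) = T := by
    ext t
    rw [mem_stab, hT]
    exact conjIdx_eq_iff hc.1 t
  have hodd : ¬ 2 ∣ (Subgroup.centralizer (D : Set G)).relIndex (stab (⟨D, c⟩ : BrauerPairIdx G)) :=
    Cfsg.Agent.H645.TraceForm.not_dvd_relIndex_stab (a := (⟨D, c⟩ : BrauerPairIdx G)) hM hmax hab
  rw [hTs] at hodd
  have hTN : T ≤ Subgroup.normalizer (D : Set G) := fun t ht => ((hT t).1 ht).1
  have hfree : ∀ t ∈ stab (⟨D, c⟩ : BrauerPairIdx G), t * z * t⁻¹ = z → t ∈ Subgroup.centralizer (D : Set G) := by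
    intro t ht htz
    rw [hTs] at ht
    set φ : MulAut D := Subgroup.normalizerMonoidHom D ⟨t, hTN ht⟩ with hφ
    have happ : ∀ v : D, ((φ v : D) : G) = t * v * t⁻¹ := fun v => rfl
    have hpow : ∀ (n : ℕ) (v : D), (((φ ^ n) v : D) : G) = t ^ n * v * (t ^ n)⁻¹ := by
      intro n v
      rw [hφ, ← map_pow]
      rfl
    have hone : φ ^ (Subgroup.centralizer (D : Set G)).relIndex T = 1 := by
      have h4 : t ^ (Subgroup.centralizer (D : Set G)).relIndex T ∈ Subgroup.centralizer (D : Set G) := by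
        have hn : ((Subgroup.centralizer (D : Set G)).subgroupOf T).Normal := by
          refine ⟨fun b hb s => ?_⟩
          rw [Subgroup.mem_subgroupOf] at hb ⊢
          rw [Subgroup.mem_centralizer_iff] at hb ⊢
          intro y hy
          have h1 : (s : G)⁻¹ * y * s ∈ D := (Subgroup.mem_normalizer_iff''.1 (hTN s.2) y).1 hy
          have h2 := hb _ h1
          push_cast
          calc y * ((s : G) * b * (s : G)⁻¹) = s * ((s : G)⁻¹ * y * s * b) * (s : G)⁻¹ := by group
            _ = s * (b * ((s : G)⁻¹ * y * s)) * (s : G)⁻¹ := by rw [h2]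
            _ = (s : G) * b * (s : G)⁻¹ * y := by group
        exact Subgroup.pow_index_mem ((Subgroup.centralizer (D : Set G)).subgroupOf T) ⟨t, ht⟩
      ext v
      rw [hpow, ← Subgroup.mem_centralizer_iff.1 h4 v v.2, mul_inv_cancel_right]
      rfl
    have hord := orderOf_dvd_of_pow_eq_one hone
    have h5 : φ = 1 := eq_one_of_fix h8.card (fun h => hodd (h.trans hord)) (fun h => h3 (h.trans hord))
      (z := ⟨z, hz⟩) (fun h => hz1 (congrArg Subtype.val h)) (Subtype.ext (by rw [happ]; exact htz))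
    rw [Subgroup.mem_centralizer_iff]
    intro y hy
    have h6 := happ ⟨y, hy⟩
    rw [h5] at h6
    have h7 : y = t * y * t⁻¹ := h6
    conv_lhs => rw [h7]
    group
  obtain ⟨hr, hdef⟩ := H990.KKL.rank_one_of_free hM (a := (⟨D, c⟩ : BrauerPairIdx G)) hmax hab hz hfree
  obtain ⟨h1, h2⟩ := bP_spec hM hmax.1.1 (a := (⟨D, c⟩ : BrauerPairIdx G)) hz
  obtain ⟨hf, -⟩ := H608.KKL.exists_local (a := (⟨D, c⟩ : BrauerPairIdx G)) hM hmax hab
    (Q := (bP 2 M (⟨D, c⟩ : BrauerPairIdx G) z).1) (f := (bP 2 M (⟨D, c⟩ : BrauerPairIdx G) z).2) h2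
  have hH : Subgroup.centralizer ((bP 2 M (⟨D, c⟩ : BrauerPairIdx G) z).1 : Set G) =
      Subgroup.centralizer ({z} : Set G) := by
    rw [h1, Cfsg.Agent.H652.Ctr.centralizer_zpowers_eq]
  -- transport along the equality
  have key : ∀ (L : Subgroup G) (f : Set (IrrCharacter L)), L = centralizer ({z} : Set G) → IsPBlock M f →
      IsDefectGroup 2 M f (D.subgroupOf L) → blockRank 2 f = 1 →
      ∃ f : Set (IrrCharacter (centralizer ({z} : Set G))), IsPBlock M f ∧
      IsDefectGroup 2 M f (D.subgroupOf (centralizer ({z} : Set G))) ∧ blockRank 2 f = 1 := by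
    rintro L f rfl h4 h5 h6
    exact ⟨f, h4, h5, h6⟩
  exact key _ _ hH hf hdef hr

/-- conjugate of a homomorphism on the centralizer of an involution -/
theorem hom_conj {X U : Type*} [Group X] [Group U] {w g : X} (f : centralizer ({w} : Set X) →* U)
    (hf : Function.Surjective f) (hk : ∀ x, f x = 1 → x = 1 ∨ (x : X) = w) :
    ∃ f' : centralizer ({g * w * g⁻¹} : Set X) →* U, Function.Surjective f' ∧
      ∀ x, f' x = 1 → x = 1 ∨ (x : X) = g * w * g⁻¹ := by
  have h1 : ∀ x : centralizer ({g * w * g⁻¹} : Set X), g⁻¹ * (x : X) * g ∈ centralizer ({w} : Set X) := by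
    intro x
    have h2 := mem_centralizer_singleton_iff.1 x.2
    rw [mem_centralizer_singleton_iff]
    calc g⁻¹ * (x : X) * g * w = g⁻¹ * ((x : X) * (g * w * g⁻¹)) * g := by group
      _ = g⁻¹ * ((g * w * g⁻¹) * (x : X)) * g := by rw [h2]
      _ = w * (g⁻¹ * (x : X) * g) := by group
  let c : centralizer ({g * w * g⁻¹} : Set X) →* centralizer ({w} : Set X) :=
    { toFun := fun x => ⟨g⁻¹ * (x : X) * g, h1 x⟩
      map_one' := Subtype.ext (by simp)
      map_mul' := fun x y => Subtype.ext (by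
        change g⁻¹ * ((x : X) * (y : X)) * g = (g⁻¹ * (x : X) * g) * (g⁻¹ * (y : X) * g)
        group) }
  have hc : ∀ x, ((c x : centralizer ({w} : Set X)) : X) = g⁻¹ * (x : X) * g := fun _ => rfl
  refine ⟨f.comp c, ?_, ?_⟩
  · intro u
    obtain ⟨y, hy⟩ := hf u
    have h3 : g * (y : X) * g⁻¹ ∈ centralizer ({g * w * g⁻¹} : Set X) := by
      have h2 := mem_centralizer_singleton_iff.1 y.2
      rw [mem_centralizer_singleton_iff]
      calc g * (y : X) * g⁻¹ * (g * w * g⁻¹) = g * ((y : X) * w) * g⁻¹ := by group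
        _ = g * (w * (y : X)) * g⁻¹ := by rw [h2]
        _ = g * w * g⁻¹ * (g * (y : X) * g⁻¹) := by group
    refine ⟨⟨_, h3⟩, ?_⟩
    rw [← hy, MonoidHom.comp_apply]
    congr 1
    apply Subtype.ext
    rw [hc]
    change g⁻¹ * (g * (y : X) * g⁻¹) * g = y
    group
  · intro x hx
    rcases hk (c x) hx with h | h
    · left
      have h2 := congrArg Subtype.val h
      rw [hc] at h2
      have h3 : g⁻¹ * (x : X) * g = 1 := h2
      apply Subtype.ext
      have h4 : (x : X) = g * (g⁻¹ * (x : X) * g) * g⁻¹ := by group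
      rw [h4, h3, mul_one, mul_inv_cancel]
      rfl
    · right
      rw [hc] at h
      calc (x : X) = g * (g⁻¹ * (x : X) * g) * g⁻¹ := by group
        _ = g * w * g⁻¹ := by rw [h]

/-- a simple group of order 95040 has trivial centre -/
theorem center_bot_of {U : Type*} [Group U] [IsSimpleGroup U] (h : Nat.card U = 95040) : center U = ⊥ := by
  have hf : Finite U := Nat.finite_of_card_ne_zero (by rw [h]; norm_num)
  rcases (inferInstance : (center U).Normal).eq_bot_or_eq_top with h1 | h1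
  · exact h1
  · exfalso
    letI : CommGroup U := Group.commGroupOfCenterEqTop h1
    have h2 : (Nat.card U).Prime := IsSimpleGroup.prime_card
    rw [h] at h2
    norm_num at h2

/-- the `2·M₁₂` step: a 2-block of `2 × M₁₂` with an elementary abelian defect group of order 8 has rank three -/
theorem rank_three {C : Type} [Group C] [Finite C] {z : C} (hz1 : z ≠ 1) (hzz : z * z = 1)
    (hzc : ∀ x : C, x * z = z * x) (φ : C →* Spor.M12) (hφ : Function.Surjective φ)
    (hk : ∀ x, φ x = 1 → x = 1 ∨ x = z) (hcen : center Spor.M12 = ⊥) {M : Ideal AlgInt} (hM : IsPModular 2 M)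
    {f : Set (IrrCharacter C)} (hf : IsPBlock M f) {D : Subgroup C} (hD : IsDefectGroup 2 M f D)
    (h8 : Nat.card D = 8) (hinv : ∀ d ∈ D, d * d = 1) : blockRank 2 f = 3 := by
  classical
  have : Fact (Nat.Prime 2) := ⟨Nat.prime_two⟩
  have hMp := isPrime_of_isPModular hM
  have hφz : φ z = 1 := by
    have h1 : φ z ∈ center Spor.M12 := by
      rw [mem_center_iff]
      intro u
      obtain ⟨x, rfl⟩ := hφ u
      rw [← map_mul, ← map_mul, hzc x]
    rw [hcen] at h1
    exact mem_bot.1 h1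
  have hker : (φ.ker : Set C) = {1, z} := by
    ext x
    simp only [SetLike.mem_coe, MonoidHom.mem_ker, Set.mem_insert_iff, Set.mem_singleton_iff]
    constructor
    · exact hk x
    · rintro (rfl | rfl)
      · exact map_one φ
      · exact hφz
  have hcard : Nat.card φ.ker = 2 := by
    have h1 : Nat.card φ.ker = (φ.ker : Set C).ncard := Nat.card_coe_set_eq _
    rw [h1, hker, Set.ncard_pair hz1.symm]
  have hUc : φ.ker ≤ center C := by
    intro x hx
    rw [mem_center_iff]
    intro g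
    rcases hk x hx with rfl | rfl
    · rw [mul_one, one_mul]
    · exact hzc g
  have hUp : IsPGroup 2 φ.ker := IsPGroup.of_card (n := 1) (by rw [hcard, pow_one])
  have := Fintype.ofFinite C
  have := Fintype.ofFinite (C ⧸ φ.ker)
  obtain ⟨hUD, h3⟩ := Cfsg.Agent.H658.isDefectGroup_defl (U := φ.ker) hM hUc hUp hf hD
  have hb := isPBlock_defl (U := φ.ker) hM hUc hUp hf
  have hc4 : Nat.card (D.map (QuotientGroup.mk' φ.ker)) = 4 := by
    rw [← Subgroup.relIndex_ker, QuotientGroup.ker_mk']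
    have h5 := (φ.ker.subgroupOf D).card_mul_index
    rw [Nat.card_congr (Subgroup.subgroupOfEquivOfLe hUD).toEquiv, h8, hcard] at h5
    have h6 : (φ.ker.subgroupOf D).index = 4 := by omega
    exact h6
  obtain ⟨ψ, hψ, hβ, -, hrg, -⟩ := Cfsg.Agent.H425.KKL.MTwelve.Q4
    (QuotientGroup.quotientKerEquivOfSurjective φ hφ) hM hb h3 hc4 (by
      rintro _ ⟨d, hd, rfl⟩
      rw [← map_mul, hinv d hd, map_one])
  rw [← blockRank_defl hM hUc hUp hf]
  have hfi : Finite (IrrCharacter (C ⧸ φ.ker)) := Core.finite_irr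
  have hfb : Fintype ↥(defl φ.ker f) := Fintype.ofFinite _
  have hsum := Cfsg.Agent.H613.RegGram.sum_rg_self hM hb
  let e : Fin 4 ≃ ↥(defl φ.ker f) :=
    (Equiv.ofInjective ψ hψ).trans (Equiv.setCongr hβ.symm)
  have he : ∀ i, ((e i : ↥(defl φ.ker f)) : IrrCharacter (C ⧸ φ.ker)) = ψ i := fun i => rfl
  rw [← e.sum_comp] at hsum
  have hee : ∀ i, (Cfsg.Agent.H425.KKL.MTwelve.ee i : ℂ) * (Cfsg.Agent.H425.KKL.MTwelve.ee i : ℂ) = 1 := by
    intro i
    have h7 : ∀ i, Cfsg.Agent.H425.KKL.MTwelve.ee i * Cfsg.Agent.H425.KKL.MTwelve.ee i = 1 := by decide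
    exact_mod_cast h7 i
  simp only [he, hrg, if_true, hee, Finset.sum_const, Finset.card_univ, Fintype.card_fin, nsmul_eq_mul] at hsum
  have h8' : (blockRank 2 (defl φ.ker f) : ℂ) = ((3 : ℕ) : ℂ) := by
    rw [← hsum]
    norm_num
  exact_mod_cast h8'

/-- **no positive height in `Co₃`** -/
theorem hz_G3 : HZ G3 := by
  classical
  intro M hM B hB D hD h8 χ hχ
  by_contra hh
  have : Fact (Nat.Prime 2) := ⟨Nat.prime_two⟩
  have hMp := isPrime_of_isPModular hM
  obtain ⟨x, θ, hcfg⟩ := Block.A5 hM hB hD h8 hχ hh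
  have h0 := hcfg.toCfg0
  -- an involution of `D`
  obtain ⟨z, hz, hz1⟩ : ∃ z ∈ D, z ≠ 1 := by
    have h1 : 1 < Nat.card D := by rw [h8.card]; norm_num
    have : Nontrivial D := (Finite.one_lt_card_iff_nontrivial).1 h1
    obtain ⟨z, hz⟩ := exists_ne (1 : D)
    exact ⟨z, z.2, fun h => hz (Subtype.ext h)⟩
  have hz2 : orderOf z = 2 := by
    rw [orderOf_eq_prime_iff]
    exact ⟨by rw [pow_two]; exact h8.inv _ hz, hz1⟩
  obtain ⟨w, dat⟩ := Cfsg.Agent.CTwoTab.Co3.exists_data
  obtain ⟨g, hg | hg⟩ := dat.cls z hz2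
  · refine CoThreeA.Q1 h0 hz ?_
    rw [isConj_iff]
    exact ⟨g, hg.symm⟩
  obtain ⟨f0, hf0, hk0⟩ := dat.hom
  obtain ⟨φ, hφ, hker⟩ := hom_conj (g := g) f0 hf0 hk0
  obtain ⟨f, hf, hfD, hr⟩ := local_one hM hB hD h8 hχ hh hz hz1
  have hG := dat.simple
  have hfin : Finite ↥(centralizer ({z} : Set G3)) := inferInstance
  have hDC : D ≤ centralizer ({z} : Set G3) := fun d hd =>
    mem_centralizer_singleton_iff.2 (H608.KKL.comm_of_inv h8.inv d hd z hz)
  subst hg
  have h3 := rank_three (C := ↥(centralizer ({g * w * g⁻¹} : Set G3))) (z := ⟨g * w * g⁻¹, hDC hz⟩)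
    (fun h => hz1 (congrArg Subtype.val h)) (Subtype.ext (h8.inv _ hz))
    (fun y => Subtype.ext (mem_centralizer_singleton_iff.1 y.2)) φ hφ
    (fun y hy => by
      rcases hker y hy with h | h
      · exact Or.inl h
      · exact Or.inr (Subtype.ext h))
    (center_bot_of dat.card) hM hf hfD (by rw [Nat.card_congr (Subgroup.subgroupOfEquivOfLe hDC).toEquiv, h8.card])
    (fun d hd => Subtype.ext (h8.inv _ hd))
  omega

/-- **F_Co3** -/
theorem F_Co3 {K : Type u} [Group K] [Finite K] (hK : IsQuasisimple K) (_hZ : Odd (Nat.card ↥(center K)))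
    (h : Spor.IsoCo3 (K ⧸ center K)) : HZ K := by
  obtain ⟨e⟩ := h
  have h1 : center K = ⊥ := H417.KKL.center_bot hK Cfsg.Agent.S2045.result (Nat.coprime_one_right _) e
  let g : K ≃* K ⧸ center K :=
    (QuotientGroup.quotientBot.symm).trans (QuotientGroup.quotientMulEquivOfEq h1.symm)
  exact H610.KKL.A7' ((g.trans e).trans SporRec.Co3.Model.equivCo3.symm) hz_G3

end Cfsg.Agent.H613.KKL.CoThree
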